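import Mathlib
import Cfsg.Agent.PreUniqB.ModelFive
import Cfsg.Agent.LThreeMB.CoOneFin
import Cfsg.Agent.S0144
import Cfsg.Agent.FastGrp
import Cfsg.Agent.Prune
set_option linter.all false
prune_inst 0x7f00000000000000000000000000000000000000000000000000000000000000000000000000000000000000000000000000000000000000000000000000000000000000000000000000000000000000003fffffffffffffffffffffffffffbeffbdffffffff
open scoped Cfsg.Agent.FastGrp

-- part: H243/BKill
section
/-!
# `C(x) ∩ C(t)` is not solvable (helper243)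

`G` the Monster, `t` of class `2A`, `x` of order 3 commuting with `t`; the analysis is the one of `PreUniqB` (helpers 19, 20).
-/

set_option autoImplicit false

namespace Cfsg.Agent.H243.BKill

open Cfsg Cfsg.Agent.PreUniqB Cfsg.Agent.MonsterU Cfsg.Agent.PreUniq
open Cfsg.Agent.LThreeMB (fr fr_conj Zx XX zD tt exists_XX_equiv CoOne KChart.Cent KChart.pi mk mk_mul mk_congr mk_eq_mk
  mk_eq_one exists_mk conj_comm)
open Cfsg.Agent.MFive (orderOf_pi TrNe HasPair isolated conj_pair WClassOf orderOf_conj'')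
open Cfsg.Agent.MonsterU.Ch
open Cfsg.Agent.MonsterU.Lam2 (L2)
open Cfsg.Spor (Co1)
open Cfsg.Agent.MonsterX.KSide Cfsg.Agent.MonsterX.KLift
open Subgroup (centralizer zpowers mem_centralizer_singleton_iff mem_zpowers_iff)

universe u v

/-- `C(x) ∩ C(t)` is not solvable. -/
def NS {G : Type u} [Group G] (x t : G) : Prop := ¬ Group.IsSolvable ↥(XTT x t)

theorem NS.conj {G : Type u} [Group G] {g x t x' t' : G} (hx : g * x * g⁻¹ = x') (ht : g * t * g⁻¹ = t') (h : NS x t) :
    NS x' t' := by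
  subst hx
  subst ht
  intro hs
  exact h (Group.isSolvable_of_isSolvable_injective (f := (conjXTT g x t).toMonoidHom) (conjXTT g x t).injective)

/-- a simple group with two elements that do not commute is not solvable -/
theorem not_solvable_simple {S : Type*} [Group S] (hS : IsSimpleGroup S) (hnc : ∃ a b : S, a * b ≠ b * a) :
    ¬ Group.IsSolvable S := by
  intro hs
  obtain ⟨a, b, hab⟩ := hnc
  exact hab (IsSimpleGroup.comm_iff_isSolvable.2 hs a b)

/-- a subgroup that maps onto a nonabelian simple group -/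
theorem not_solvable_of {H K S : Type*} [Group H] [Group K] [Group S] (i : K →* H) (hi : Function.Injective i)
    (f : K →* S) (hf : Function.Surjective f) (hS : IsSimpleGroup S) (hnc : ∃ a b : S, a * b ≠ b * a) :
    ¬ Group.IsSolvable H := by
  intro hs
  have h1 : Group.IsSolvable K := Group.isSolvable_of_isSolvable_injective (f := i) hi
  exact not_solvable_simple hS hnc (Group.isSolvable_of_surjective (f := f) hf)

section zero

variable {G : Type u} {V P W : Type*} [Group G] [AddCommGroup V] [Module ℚ V]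
  [DistribMulAction G V] [SMulCommClass G ℚ V] [Group P] [AddCommGroup W] [Module ℚ W]
  {M : KS G V P W} {θ : leechLattice → P}

/-- **Fixed rank 0.** -/
theorem ns_zero_three [Finite G] (L : Lift M θ) (hc : KChart.Cent M) (I : CoOne)
    {x : centralizer ({M.z} : Set G)} (hx : orderOf x = 3) (hfr : fr (KChart.pi hc x) = 1) {t : G}
    (htt : t * t = 1) (ht1 : t ≠ 1) (htne : t ≠ M.z) (htz : t * M.z = M.z * t) (htx : t * (x : G) = x * t) :
    NS (x : G) t := by
  have h := Cfsg.Agent.LThreeMB.KChart.chart L hc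
  obtain ⟨F, hF, -, -, -⟩ := exists_map L hc hx hfr (I.suz _ (LThreeMB.orderOf_pi h hx) hfr) htt ht1 htne htz htx
  refine not_solvable_of (K := ↥(TZ (tD (z' := zD x) htx htz)))
    { toFun := fun g => ⟨(((g : ↥(centralizer ({zD x} : Set ↥(centralizer ({(x : G)} : Set G))))) :
        ↥(centralizer ({(x : G)} : Set G))) : G), mem_XTT.2 ⟨mem_centralizer_singleton_iff.1 g.1.1.2,
          congrArg (fun q : ↥(centralizer ({zD x} : Set ↥(centralizer ({(x : G)} : Set G)))) =>
            ((q : ↥(centralizer ({(x : G)} : Set G))) : G)) (mem_centralizer_singleton_iff.1 g.2)⟩⟩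
      map_one' := rfl
      map_mul' := fun _ _ => rfl } (fun a b hab => ?_) F hF spl_SU.simple spl_SU.nc
  have h1 := congrArg (fun q : ↥(XTT (x : G) t) => (q : G)) hab
  exact Subtype.ext (Subtype.ext (Subtype.ext h1))

end zero

variable {p : ℕ} {G : Type u} [Group G] {Q : Subgroup G} {z : G} {eta : G → L2}
  {pi : Subgroup.centralizer ({z} : Set G) →* Co1} {T : G → Prop}

/-- The case of fixed rank 0 and `t z = z t`. -/
def ZeroN (p : ℕ) {G : Type u} [Group G] (z : G) (pi : Subgroup.centralizer ({z} : Set G) →* Co1) (T : G → Prop) : Prop :=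
  ∀ (x : Subgroup.centralizer ({z} : Set G)) (t : G), orderOf x = p → fr (pi x) = 1 → T t → t * z = z * t →
    t * (x : G) = x * t → NS (x : G) t

/-- **Fixed rank 0.** -/
theorem ns_zero_of [Finite G] (h : Chart Q z eta pi) (htr : TrNe p z pi)
    (hT : TCl Q z T) (H0 : ZeroN p z pi T) {x : Subgroup.centralizer ({z} : Set G)} (hx : orderOf x = p)
    (hfr : fr (pi x) = 1) {t : G} (htT : T t) (hxt : (x : G) * t = t * x) : NS (x : G) t := by
  let tD' : ↥(centralizer ({(x : G)} : Set G)) := ⟨t, mem_centralizer_singleton_iff.2 hxt.symm⟩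
  have hzo : orderOf (zD x) = 2 := MFive.orderOf_zD h x
  have hto : orderOf tD' = 2 := by rw [← Subgroup.orderOf_coe]; exact hT.two t htT
  obtain ⟨d, hd⟩ := LThreeBX.Abs.exists_conj_comm hzo (fun d hd => Subtype.ext (isolated h htr hx hfr d
    (mem_centralizer_singleton_iff.1 d.2) (congrArg Subtype.val hd))) hto
  have hd' : ((d : G) * t * (d : G)⁻¹) * z = z * ((d : G) * t * (d : G)⁻¹) := congrArg Subtype.val hd
  have hdx : (d : G) * x = x * d := mem_centralizer_singleton_iff.1 d.2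
  set t' := (d : G) * t * (d : G)⁻¹ with ht'
  have hT' : T t' := hT.conj t d htT
  have hx't : (x : G) * t' = t' * x := by
    have hdx' : Commute (x : G) (d : G) := hdx.symm
    have h1 : Commute (x : G) t := hxt
    exact ((hdx'.mul_right h1).mul_right hdx'.inv_right).eq
  have h1 := H0 x t' hx hfr hT' hd' hx't.symm
  refine NS.conj (g := (d : G)⁻¹) ?_ ?_ h1
  · rw [inv_inv, mul_assoc, ← hdx, inv_mul_cancel_left]
  · rw [ht', inv_inv]; group

/-- **The middle fixed rank.** -/
theorem ns_mid [Finite G] (h : Chart Q z eta pi) (hp : p.Prime) (ho : Odd p) (htr : TrNe p z pi)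
    (hT : TCl Q z T) (H0 : ZeroN p z pi T) {n : ℕ} {R : ℕ → Prop}
    (hC : ∀ s : Co1, orderOf s = p → fr s = 1 ∨ fr s = n ∨ R (fr s)) (hcl : WClassOf p n)
    (hR : ∀ x : Subgroup.centralizer ({z} : Set G), orderOf x = p → R (fr (pi x)) →
      IsSimpleGroup (XX (x : G)) ∧ Subgroup.center (XX (x : G)) ≠ ⊤) (hpr : HasPair p z pi)
    {x : Subgroup.centralizer ({z} : Set G)} (hx : orderOf x = p)
    (hfr : fr (pi x) = n) {t : G} (htT : T t) (hxt : (x : G) * t = t * x) : NS (x : G) t := by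
  obtain ⟨x₀, u, g, hx₀, hfr₀, huz, hux, hne, hg⟩ := hpr
  obtain ⟨k, i, hk⟩ := conj_pair h hp ho htr hC hcl hR hx₀ hfr₀ huz hux hne hg hx hfr
  have hoi : orderOf (x₀ ^ i) = p := by
    rw [← Subgroup.orderOf_coe]
    show orderOf ((x₀ : G) ^ i) = p
    rw [← hk, ← hx, ← Subgroup.orderOf_coe]
    exact MulEquiv.orderOf_eq (MulAut.conj k) (x : G)
  have hfi : fr (pi (x₀ ^ i)) = 1 := by
    rw [map_pow]
    refine fr_pow hp (orderOf_pi h hp ho hx₀) hfr₀ ?_
    rw [← map_pow]
    exact orderOf_pi h hp ho hoi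
  have hc : ((x₀ ^ i : Subgroup.centralizer ({z} : Set G)) : G) * (k * t * k⁻¹) =
      (k * t * k⁻¹) * ((x₀ ^ i : Subgroup.centralizer ({z} : Set G)) : G) := by
    show (x₀ : G) ^ i * (k * t * k⁻¹) = (k * t * k⁻¹) * (x₀ : G) ^ i
    rw [← hk]
    calc k * (x : G) * k⁻¹ * (k * t * k⁻¹) = k * ((x : G) * t) * k⁻¹ := by group
      _ = k * (t * x) * k⁻¹ := by rw [hxt]
      _ = k * t * k⁻¹ * (k * x * k⁻¹) := by group
  have h1 := ns_zero_of h htr hT H0 hoi hfi (hT.conj t k htT) hc
  refine NS.conj (g := k⁻¹) ?_ ?_ h1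
  · show k⁻¹ * ((x₀ : G) ^ i) * k⁻¹⁻¹ = x
    rw [← hk]; group
  · group

/-- **For `x` commuting with a conjugate of `z`.** -/
theorem ns_of_conj (hT : TCl Q z T)
    (H : ∀ (x : Subgroup.centralizer ({z} : Set G)) (t : G), orderOf x = p → T t → (x : G) * t = t * x → NS (x : G) t)
    {x t : G} (hx : orderOf x = p) (htT : T t) (hxt : x * t = t * x)
    (hex : ∃ g : G, (g * z * g⁻¹) * x = x * (g * z * g⁻¹)) : NS x t := by
  obtain ⟨g, hg⟩ := hex
  have h1 : (g⁻¹ * x * g) * z = z * (g⁻¹ * x * g) := by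
    calc (g⁻¹ * x * g) * z = g⁻¹ * (x * (g * z * g⁻¹)) * g := by group
      _ = g⁻¹ * ((g * z * g⁻¹) * x) * g := by rw [hg]
      _ = z * (g⁻¹ * x * g) := by group
  let x' : centralizer ({z} : Set G) := ⟨g⁻¹ * x * g, mem_centralizer_singleton_iff.2 h1⟩
  have h3 : g * (x' : G) * g⁻¹ = x := by
    show g * (g⁻¹ * x * g) * g⁻¹ = x
    group
  have hx' : orderOf x' = p := by
    rw [← Subgroup.orderOf_coe]
    show orderOf (g⁻¹ * x * g) = p
    rw [orderOf_conj'', hx]
  have h4 : (x' : G) * (g⁻¹ * t * g) = (g⁻¹ * t * g) * x' := by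
    show (g⁻¹ * x * g) * (g⁻¹ * t * g) = (g⁻¹ * t * g) * (g⁻¹ * x * g)
    calc (g⁻¹ * x * g) * (g⁻¹ * t * g) = g⁻¹ * (x * t) * g := by group
      _ = g⁻¹ * (t * x) * g := by rw [hxt]
      _ = _ := by group
  have h6 : T (g⁻¹ * t * g) := by
    have h5 := hT.conj t g⁻¹ htT
    rwa [inv_inv] at h5
  exact NS.conj h3 (by group) (H x' _ hx' h6 h4)

/-! ### `C(x) / ⟨x⟩` with involution centralizers `2.S` -/

/-- a surjection of `C(x)` with kernel `⟨x⟩` -/
theorem ns_two {x t : G} (hp2 : p ≠ 2) (hp : p.Prime) (hx : orderOf x = p) (ht : orderOf t = 2) (hxt : x * t = t * x)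
    {F : Type v} [Group F] (ψ : ↥(centralizer ({x} : Set G)) →* F) (hψ : Function.Surjective ψ)
    (hψk : ∀ c : ↥(centralizer ({x} : Set G)), ψ c = 1 ↔ (c : G) ∈ zpowers x) {N : Subgroup F}
    (hN : ∀ n ∈ N, n * ψ ⟨t, mem_centralizer_singleton_iff.2 hxt.symm⟩ = ψ ⟨t, mem_centralizer_singleton_iff.2 hxt.symm⟩ * n)
    {S : Type*} [Group S] (φ : ↥N →* S) (hφ : Function.Surjective φ)
    (hS : IsSimpleGroup S) (hnc : ∃ a b : S, a * b ≠ b * a) : NS x t := by
  have htt : t * t = 1 := by rw [← pow_two, ← ht, pow_orderOf_eq_one]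
  -- elements of `ψ⁻¹(N)` commute with `t`
  have hlift : ∀ c : ↥(centralizer ({x} : Set G)), ψ c ∈ N → (c : G) * t = t * c := by
    intro c hc
    have h1 := hN _ hc
    have h2 : ψ (c * ⟨t, mem_centralizer_singleton_iff.2 hxt.symm⟩ * c⁻¹ * (⟨t, mem_centralizer_singleton_iff.2 hxt.symm⟩)⁻¹) = 1 := by
      rw [map_mul, map_mul, map_mul, map_inv, map_inv, h1]
      group
    rw [hψk] at h2
    obtain ⟨i, hi⟩ := mem_zpowers_iff.1 h2
    have hi' : x ^ i = (c : G) * t * (c : G)⁻¹ * t⁻¹ := hi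
    have h3 : (c : G) * t * (c : G)⁻¹ = x ^ i * t := by rw [hi']; group
    -- its square is 1
    have h4 : (x ^ i * t) * (x ^ i * t) = 1 := by
      rw [← h3]
      calc (c : G) * t * (c : G)⁻¹ * ((c : G) * t * (c : G)⁻¹) = (c : G) * (t * t) * (c : G)⁻¹ := by group
        _ = 1 := by rw [htt]; group
    have hcx : x ^ i * t = t * x ^ i := ((show Commute x t from hxt).zpow_left i).eq
    have h5 : x ^ i * x ^ i = 1 := by
      calc x ^ i * x ^ i = (x ^ i * t) * (t * x ^ i) := by rw [mul_assoc, ← mul_assoc t t, htt, one_mul]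
        _ = 1 := by rw [← hcx]; exact h4
    have h6 : x ^ i = 1 := by
      have h7 : (x ^ i) ^ 2 = 1 := by rw [pow_two]; exact h5
      have h8 : (x ^ i) ^ p = 1 := by
        rw [← zpow_natCast, ← zpow_mul, mul_comm, zpow_mul, zpow_natCast, ← hx, pow_orderOf_eq_one, one_zpow]
      have h9 := pow_gcd_eq_one.2 ⟨h7, h8⟩
      have h10 : Nat.gcd 2 p = 1 := (Nat.coprime_primes Nat.prime_two hp).2 (Ne.symm hp2)
      rw [h10, pow_one] at h9
      exact h9
    rw [h6, one_mul] at h3
    exact mul_inv_eq_iff_eq_mul.1 h3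
  let K : Subgroup ↥(centralizer ({x} : Set G)) := N.comap ψ
  refine not_solvable_of (K := ↥K)
    { toFun := fun k => ⟨((k : ↥(centralizer ({x} : Set G))) : G), mem_XTT.2 ⟨mem_centralizer_singleton_iff.1 k.1.2,
        hlift k k.2⟩⟩
      map_one' := rfl
      map_mul' := fun _ _ => rfl } (fun a b hab => ?_) (φ.comp (ψ.subgroupComap N)) ?_ hS hnc
  · have h1 := congrArg (fun q : ↥(XTT x t) => (q : G)) hab
    exact Subtype.ext (Subtype.ext h1)
  · intro s
    obtain ⟨n, rfl⟩ := hφ s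
    obtain ⟨c, hc⟩ := hψ n
    refine ⟨⟨c, ?_⟩, ?_⟩
    · change ψ c ∈ N
      rw [hc]; exact n.2
    · change φ (ψ.subgroupComap N ⟨c, _⟩) = φ n
      congr 1
      exact Subtype.ext hc

/-- **`NS` from the two kinds of involutions.** -/
theorem ns_of_classes [Finite G] (h : Chart Q z eta pi) (hp : p.Prime) (hp2 : p ≠ 2)
    {x : Subgroup.centralizer ({z} : Set G)} (hx : orderOf x = p) (hfr : ¬ fr (pi x) ∣ 2)
    (hfr2 : ∃ k, fr (pi x) = 2 ^ k) {F : Type v} [Group F] (e : XX (x : G) ≃* F) {w0 : F}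
    (hcl : ∀ τ : F, orderOf τ = 2 → Pairish p τ ∨ IsConj τ w0) {t : G} (ht : orderOf t = 2)
    (hxt : (x : G) * t = t * x) (hnt : ∀ d : G, d * t * d⁻¹ ≠ z) : NS (x : G) t := by
  have ho : Odd p := hp.odd_of_ne_two hp2
  have hxo : orderOf (x : G) = p := by rw [Subgroup.orderOf_coe, hx]
  have hxp : (x : G) ^ p = 1 := by rw [← hxo, pow_orderOf_eq_one]
  have htt : t * t = 1 := by rw [← pow_two, ← ht, pow_orderOf_eq_one]
  have ht1 : t ≠ 1 := by
    intro h1
    rw [h1, orderOf_one] at ht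
    exact absurd ht (by norm_num)
  obtain ⟨m, hm⟩ := ho
  -- an involution commuting with `x` is not in `⟨x⟩`
  have hinv : ∀ s : G, s * s = 1 → s ≠ 1 → ∀ hs : s * (x : G) = x * s, orderOf (mk (x : G) hs) = 2 := by
    intro s hss hs1 hs
    have : Fact (Nat.Prime 2) := ⟨Nat.prime_two⟩
    apply orderOf_eq_prime
    · rw [pow_two, mk_mul hs hs (by rw [hss, one_mul, mul_one])]
      rw [mk_congr _ (by rw [one_mul, mul_one]) hss]
      rfl
    · intro h1
      obtain ⟨i, hi⟩ := (mk_eq_one hs).1 h1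
      apply hs1
      have h2 : s ^ p = 1 := by rw [← hi, ← zpow_natCast, ← zpow_mul, mul_comm, zpow_mul, zpow_natCast, hxp, one_zpow]
      rwa [hm, pow_succ, pow_mul, pow_two, hss, one_pow, one_mul] at h2
  rcases hcl (e (mk (x : G) hxt.symm)) (by rw [MulEquiv.orderOf_eq]; exact hinv t htt ht1 hxt.symm) with h1 | h1
  · obtain ⟨N, S, _, φ, hS, hnc, -, hT⟩ := h1
    refine ns_two hp2 hp hxo ht hxt (e.toMonoidHom.comp (QuotientGroup.mk' (Zx (x : G))))
      (e.surjective.comp (QuotientGroup.mk'_surjective _)) (fun c => ?_) (N := N) hT.comm φ hT.surj hS hnc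
    show e (QuotientGroup.mk c) = 1 ↔ _
    rw [e.map_eq_one_iff]
    exact mk_eq_one (x := (x : G)) (g := (c : G)) (mem_centralizer_singleton_iff.1 c.2)
  · exfalso
    have hzz : z * z = 1 := h.large.z_sq
    have hzx : z * (x : G) = x * z := (mem_centralizer_singleton_iff.1 x.2).symm
    rcases hcl (e (tt x)) (by rw [MulEquiv.orderOf_eq]; exact hinv z hzz h.large.z_ne hzx) with h2 | h2
    · exact not_pairish h hp hp2 hx hfr hfr2 e h2
    · obtain ⟨c, hc⟩ := isConj_iff.1 (h1.trans h2.symm)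
      obtain ⟨c, rfl⟩ := e.surjective c
      rw [← map_mul, ← map_inv, ← map_mul] at hc
      obtain ⟨g, hg, rfl⟩ := exists_mk c
      have hc2 := e.injective hc
      have h3 : mk (x : G) (conj_comm hg hxt.symm) = mk (x : G) hzx := hc2
      obtain ⟨i, hi⟩ := (mk_eq_mk _ _).1 h3
      -- `g t g⁻¹ x^i = z`
      apply hnt g
      have hcx : Commute (g * t * g⁻¹) ((x : G) ^ i) :=
        (show Commute (g * t * g⁻¹) (x : G) from conj_comm hg hxt.symm).zpow_right i
      have h4 : (g * t * g⁻¹ * (x : G) ^ i) ^ p = z ^ p := by rw [hi]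
      have hpow : ∀ s : G, s * s = 1 → s ^ p = s := fun s hs => by
        rw [hm, pow_succ, pow_mul, pow_two, hs, one_pow, one_mul]
      have h5 : (g * t * g⁻¹) * (g * t * g⁻¹) = 1 := by
        calc (g * t * g⁻¹) * (g * t * g⁻¹) = g * (t * t) * g⁻¹ := by group
          _ = 1 := by rw [htt]; group
      rw [hcx.mul_pow, hpow _ h5, hpow _ hzz, ← zpow_natCast ((x : G) ^ i), ← zpow_mul, mul_comm i, zpow_mul, zpow_natCast,
        hxp, one_zpow, mul_one] at h4
      exact h4

/-- **Fixed rank 12.** -/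
theorem ns_fi [Finite G] [IsSimpleGroup G] (h : Chart Q z eta pi) (I : CoOne)
    {x : Subgroup.centralizer ({z} : Set G)} (hx : orderOf x = 3) (hfr : fr (pi x) = 2 ^ 12) {t : G}
    (ht : orderOf t = 2) (hxt : (x : G) * t = t * x) (hnt : ∀ d : G, d * t * d⁻¹ ≠ z) : NS (x : G) t := by
  obtain ⟨e⟩ := isoFi h I hx hfr
  exact ns_of_classes h Nat.prime_three (by norm_num) hx (by rw [hfr]; norm_num) ⟨12, hfr⟩ e classes_fi ht hxt hnt

/-- **Fixed rank 8**: there is no such `t`. -/
theorem ns_th [Finite G] [IsSimpleGroup G] (h : Chart Q z eta pi) (I : CoOne)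
    {x : Subgroup.centralizer ({z} : Set G)} (hx : orderOf x = 3) (hfr : fr (pi x) = 2 ^ 8) {t : G}
    (ht : orderOf t = 2) (hxt : (x : G) * t = t * x) (hnt : ∀ d : G, d * t * d⁻¹ ≠ z) : NS (x : G) t := by
  obtain ⟨s, hs, hfs, ⟨e⟩, hg, hf⟩ := I.nine
  obtain ⟨x', hx', hs', c, hc⟩ := LThreeMB.exists_conj_to h hx hs (by rw [hfr]; exact I.eight) (by rw [hfs, hfr])
  subst hs'
  obtain ⟨-, ⟨f⟩⟩ := exists_XX_equiv hc
  obtain ⟨e'⟩ := LThreeMB.iso_th h hx' hfs (by rw [hfs]; exact I.eight) hf e hg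
  have key : ∀ e'' : XX (x : G) ≃* Spor.Th, NS (x : G) t := fun e'' =>
    ns_of_classes h Nat.prime_three (by norm_num) hx (by rw [hfr]; norm_num) ⟨8, hfr⟩ e''
      (fun τ hτ => Or.inr
        (MonsterX.ThOneClass.oneClass _ _ MonsterX.ThOneClass.orderOf_a hτ).symm) ht hxt hnt
  first
  | exact key (f.trans e')
  | exact key (f.symm.trans e')

section

variable {G : Type u} {V P W : Type*} [Group G] [AddCommGroup V] [Module ℚ V]
  [DistribMulAction G V] [SMulCommClass G ℚ V] [Group P] [AddCommGroup W] [Module ℚ W]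
  {M : MonsterX.KSide.KS G V P W} {θ : leechLattice → P}

/-- **All `x` of order 3 commuting with a conjugate of `z`.** -/
theorem ns_three [Finite G]
    [IsSimpleGroup G] (L : MonsterX.KLift.Lift M θ) (hc : LThreeMB.KChart.Cent M) (I : CoOne)
    (ht : LThreeMB.TrNe M.z (LThreeMB.KChart.pi hc)) (hpr : HasPair 3 M.z (LThreeMB.KChart.pi hc))
    {T : G → Prop} {Q : Subgroup G} {eta : G → L2} (h : Chart Q M.z eta (LThreeMB.KChart.pi hc)) (hT : TCl Q M.z T)
    {x t : G} (hx : orderOf x = 3) (htT : T t) (hxt : x * t = t * x)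
    (hex : ∃ g : G, (g * M.z * g⁻¹) * x = x * (g * M.z * g⁻¹)) : NS x t := by
  have htr : TrNe 3 M.z (LThreeMB.KChart.pi hc) := by
    intro x x' u g hx hx' hfr hfr' huz huu hu1 hne hux hg
    exact ht x x' u g hx hx' hfr hfr' huz huu hu1 hne hux hg
  have H0 : ZeroN 3 M.z (LThreeMB.KChart.pi hc) T := by
    intro x t hx hfr htT htz htx
    exact ns_zero_three L hc I hx hfr (hT.sq htT) (hT.ne_one htT) (hT.ne t htT) htz htx
  refine ns_of_conj hT (fun x t hx htT hxt => ?_) hx htT hxt hex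
  rcases LThreeCo1.Ranks.ranks _ (orderOf_pi h Nat.prime_three (by decide) hx) with h1 | h1 | h1 | h1
  · exact ns_zero_of h htr hT H0 hx h1 htT hxt
  · refine ns_mid h Nat.prime_three (by decide) htr hT H0 (n := 2 ^ 6) (R := fun n => n = 2 ^ 8 ∨ n = 2 ^ 12)
      (fun s hs => ?_) (MFive.ClassOf.weak LThreeCo1.Ranks.six) (fun y hy h2 => ?_) hpr hx h1 htT hxt
    · rcases LThreeCo1.Ranks.ranks s hs with h1 | h1 | h1 | h1
      · exact Or.inl h1
      · exact Or.inr (Or.inl h1)
      · exact Or.inr (Or.inr (Or.inl h1))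
      · exact Or.inr (Or.inr (Or.inr h1))
    · have h3 := MonThree.spl_of_inputs h I hy h2
      refine ⟨h3.simple, fun h4 => ?_⟩
      obtain ⟨a, b, hab⟩ := h3.nc
      apply hab
      have h5 : b ∈ Subgroup.center (XX (y : G)) := by rw [h4]; trivial
      exact Subgroup.mem_center_iff.1 h5 a
  · exact ns_th h I hx h1 (hT.two t htT) hxt (hT.not_conj htT)
  · exact ns_fi h I hx h1 (hT.two t htT) hxt (hT.not_conj htT)

end

end Cfsg.Agent.H243.BKill
end

-- part: H243/BKillB
section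
/-!
# The centralizer of an element of order 3 of the Baby Monster is not solvable (helper243)
-/

set_option autoImplicit false
set_option maxRecDepth 100000

namespace Cfsg.Agent.H243.BKillB

open Cfsg Cfsg.Agent.MonsterX Cfsg.Agent.MonsterX.InstData Cfsg.Agent.MonsterX.MainPack Cfsg.Agent.MonsterU
open Cfsg.Agent.MonsterP Cfsg.Agent.MonsterN Cfsg.Agent.PreUniq Cfsg.Agent.PreUniqB
open Cfsg.Agent.LThreeMB (KChart.Cent KChart.pi KChart.chart CoOne)
open Cfsg.Agent.MonsterX.MainBasic Cfsg.Agent.MonsterX.MainSimple Cfsg.Agent.MonsterX.Model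
open Cfsg.Agent.CpAutBFive Cfsg.Agent.H243.BKill
open Subgroup (centralizer mem_centralizer_singleton_iff center mem_inf)

universe u

/-- the passage to `C(t) / ⟨t⟩` -/
theorem cent_of_ns {G : Type u} [Group G] {t : G} (ht : orderOf t = 2) {X : Type u} [Group X]
    {p : ℕ} (hp : p.Prime) (hp2 : p ≠ 2) (q : ↥(centralizer ({t} : Set G)) →* X) (hq : Function.Surjective q)
    (hk : ∀ c : ↥(centralizer ({t} : Set G)), q c = 1 ↔ (c : G) = 1 ∨ (c : G) = t)
    (h : ∀ x : G, orderOf x = p → x * t = t * x → NS x t) {x : X} (hx : orderOf x = p) :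
    ¬ Group.IsSolvable ↥(centralizer ({x} : Set X)) := by
  intro hsol
  have : Fact p.Prime := ⟨hp⟩
  have htt : t * t = 1 := by rw [← pow_two, ← ht, pow_orderOf_eq_one]
  obtain ⟨m, hm⟩ : Odd p := hp.odd_of_ne_two hp2
  have htp : t ^ p = t := by rw [hm, pow_succ, pow_mul, pow_two, htt, one_pow, one_mul]
  -- a lift of order `p`
  obtain ⟨w, hwq, hwp⟩ : ∃ w : ↥(centralizer ({t} : Set G)), q w = x ∧ (w : G) ^ p = 1 := by
    obtain ⟨y, hy⟩ := hq x
    have hyt : Commute (y : G) t := mem_centralizer_singleton_iff.1 y.2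
    have h1 : q (y ^ p) = 1 := by rw [map_pow, hy, ← hx, pow_orderOf_eq_one]
    rcases (hk _).1 h1 with h2 | h2
    · exact ⟨y, hy, by rw [← h2]; rfl⟩
    · refine ⟨y * ⟨t, mem_centralizer_singleton_iff.2 rfl⟩, ?_, ?_⟩
      · rw [map_mul, (hk ⟨t, mem_centralizer_singleton_iff.2 rfl⟩).2 (Or.inr rfl), mul_one, hy]
      · show ((y : G) * t) ^ p = 1
        have h3 : (y : G) ^ p = t := h2
        rw [hyt.mul_pow, htp, h3, htt]
  have hwo : orderOf (w : G) = p := by
    refine orderOf_eq_prime hwp fun h2 => ?_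
    have h3 : w = 1 := Subtype.ext h2
    rw [h3, map_one] at hwq
    rw [← hwq, orderOf_one] at hx
    exact hp.one_lt.ne hx
  have hwt : (w : G) * t = t * w := mem_centralizer_singleton_iff.1 w.2
  have hmem : ∀ c : ↥(XTT (w : G) t), (c : G) ∈ centralizer ({t} : Set G) := fun c => (mem_inf.1 c.2).2
  have hc : ∀ c : ↥(XTT (w : G) t), q ⟨c, hmem c⟩ ∈ centralizer ({x} : Set X) := by
    intro c
    rw [mem_centralizer_singleton_iff, ← hwq, ← map_mul, ← map_mul]
    congr 1
    exact Subtype.ext (mem_XTT.1 c.2).1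
  let f : ↥(XTT (w : G) t) →* ↥(centralizer ({x} : Set X)) :=
    { toFun := fun c => ⟨q ⟨c, hmem c⟩, hc c⟩
      map_one' := Subtype.ext (map_one q)
      map_mul' := fun a b => Subtype.ext (map_mul q ⟨a, hmem a⟩ ⟨b, hmem b⟩) }
  apply h (w : G) hwo hwt
  -- the kernel of `f` is abelian
  have hker : Group.IsSolvable ↥f.ker := by
    refine Group.isSolvable_of_comm fun a b => ?_
    have key : ∀ a : ↥f.ker, ((a : ↥(XTT (w : G) t)) : G) = 1 ∨ ((a : ↥(XTT (w : G) t)) : G) = t := fun a =>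
      (hk ⟨_, hmem a⟩).1 (congrArg Subtype.val (show f (a : ↥(XTT (w : G) t)) = 1 from a.2))
    apply Subtype.ext
    apply Subtype.ext
    show ((a : ↥(XTT (w : G) t)) : G) * ((b : ↥(XTT (w : G) t)) : G) = ((b : ↥(XTT (w : G) t)) : G) * ((a : ↥(XTT (w : G) t)) : G)
    rcases key a with ha | ha <;> rcases key b with hb | hb <;> rw [ha, hb]
    · rw [one_mul, mul_one]
    · rw [one_mul, mul_one]
  exact Group.isSolvable_of_ker_le_range f.ker.subtype f (by rw [Subgroup.range_subtype])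

/-- for the group of the definition -/
theorem cent_baby (I : CoOne) {x : Spor.BabyMonster} (hx : orderOf x = 3) :
    ¬ Group.IsSolvable ↥(centralizer ({x} : Set Spor.BabyMonster)) := by
  have hfin : Finite ↥InstData.M.G := MFive.Row.finite_model
  have hs : IsSimpleGroup ↥InstData.M.G := MFive.Row.simple_model
  have htr := LThreeMB.KPair.trNe KDone.lft MFive.Row.hc (LThreeMBTr.traceNe KDone.lft LThreeMBTr.TensK.tens)
  have hpr := LThreeMB.KPair.hasPair KDone.lft MFive.Row.hc LThreeB.Row.second LThreeMB.COct.octPair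
  obtain ⟨⟨h1, -, ⟨e⟩⟩, -⟩ := ModelB.fieldsKS LitFin.all KDone.lnk KDone.lft (NodesGrp.prel LitFin.H)
    (NodesNe.ne LitFin.H) LitFin.conj_ten Cfsg.Agent.S1704.result KDone.lnk.x₀_mem
  obtain ⟨g, hg⟩ := ModelB.exists_conj_t LitFin.all.hG LitFin.all.hR KDone.lnk KDone.lft KDone.lnk.x₀_mem
  set t := KDone.K.ι KLinkInst.x₀ with ht
  have hconj : IsConj RowB.t t := isConj_iff.2 ⟨g, hg⟩
  have hto : orderOf t = 2 := RowB.orderOf_t hconj
  let tC : ↥(centralizer ({t} : Set ↥InstData.M.G)) := ⟨t, mem_centralizer_singleton_iff.2 rfl⟩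
  have htc : tC ∈ center ↥(centralizer ({t} : Set ↥InstData.M.G)) := by
    rw [Subgroup.mem_center_iff]
    intro c
    exact Subtype.ext (mem_centralizer_singleton_iff.1 c.2)
  have htC1 : tC ≠ 1 := by
    intro h
    have h2 : t = 1 := congrArg Subtype.val h
    rw [h2, orderOf_one] at hto
    norm_num at hto
  have hcen : ∀ c : ↥(centralizer ({t} : Set ↥InstData.M.G)), c ∈ center ↥(centralizer ({t} : Set ↥InstData.M.G)) ↔
      c = 1 ∨ c = tC := by
    intro c
    constructor
    · intro hc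
      obtain ⟨y, hy, huniq⟩ := (Nat.card_eq_two_iff' (1 : ↥(center ↥(centralizer ({t} : Set ↥InstData.M.G))))).1 h1
      by_cases hc1 : c = 1
      · exact Or.inl hc1
      · right
        have h2 := huniq ⟨c, hc⟩ (fun h => hc1 (congrArg Subtype.val h))
        have h3 := huniq ⟨tC, htc⟩ (fun h => htC1 (congrArg Subtype.val h))
        exact congrArg Subtype.val (h2.trans h3.symm)
    · rintro (rfl | rfl)
      · exact Subgroup.one_mem _
      · exact htc
  refine cent_of_ns hto Nat.prime_three (by norm_num)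
    (e.toMonoidHom.comp (QuotientGroup.mk' (center ↥(centralizer ({t} : Set ↥InstData.M.G)))))
    (e.surjective.comp (QuotientGroup.mk'_surjective _)) (fun c => ?_) (fun y hy hyt => ?_) hx
  · show e (QuotientGroup.mk c) = 1 ↔ _
    rw [e.map_eq_one_iff, QuotientGroup.eq_one_iff, hcen]
    constructor
    · rintro (rfl | rfl)
      · exact Or.inl rfl
      · exact Or.inr rfl
    · rintro (h | h)
      · exact Or.inl (Subtype.ext h)
      · exact Or.inr (Subtype.ext h)
  · obtain ⟨g, hg, -⟩ := LThreeM.FiRow.exists_z_in (by rw [← hy, pow_orderOf_eq_one]) hconj hyt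
    exact ns_three KDone.lft MFive.Row.hc I htr hpr (KChart.chart KDone.lft MFive.Row.hc) Model.tcl hy hconj hyt ⟨g, hg⟩

/-- **The centralizer of an element of order 3 of the Baby Monster is not solvable.** -/
theorem cent_b {K : Type*} [Group K] (h : Spor.IsoB K) {x : K} (hx : orderOf x = 3) :
    ¬ Group.IsSolvable ↥(centralizer ({x} : Set K)) := by
  obtain ⟨e⟩ := h
  intro hs
  have hx' : orderOf (e x) = 3 := by rw [MulEquiv.orderOf_eq]; exact hx
  refine cent_baby LThreeMB.CoOneFin.coOne hx' ?_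
  let f : ↥(centralizer ({e x} : Set Spor.BabyMonster)) →* ↥(centralizer ({x} : Set K)) :=
    { toFun := fun c => ⟨e.symm c, mem_centralizer_singleton_iff.2 (by
        apply e.injective
        rw [map_mul, map_mul, e.apply_symm_apply, mem_centralizer_singleton_iff.1 c.2])⟩
      map_one' := Subtype.ext (map_one e.symm)
      map_mul' := fun a b => Subtype.ext (map_mul e.symm _ _) }
  refine Group.isSolvable_of_isSolvable_injective (f := f) fun a b hab => ?_
  exact Subtype.ext (e.symm.injective (congrArg Subtype.val hab))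

/-- **The kill of `B`**: an element of order 3 with centralizer of order dividing `2 ^ a * 3 ^ b`. -/
theorem b_false {K : Type*} [Group K] (h : Spor.IsoB K) {x : K} (hx : orderOf x = 3) {a b : ℕ}
    (hd : Nat.card ↥(centralizer ({x} : Set K)) ∣ 2 ^ a * 3 ^ b) : False := by
  obtain ⟨c, d, -, -, hcd⟩ : ∃ c d : ℕ, c ≤ a ∧ d ≤ b ∧ Nat.card ↥(centralizer ({x} : Set K)) = 2 ^ c * 3 ^ d := by
    obtain ⟨m, n, hm, hn, hmn⟩ := (Nat.dvd_mul).1 hd
    obtain ⟨c, hc, rfl⟩ := (Nat.dvd_prime_pow Nat.prime_two).1 hm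
    obtain ⟨d, hd, rfl⟩ := (Nat.dvd_prime_pow Nat.prime_three).1 hn
    exact ⟨c, d, hc, hd, hmn.symm⟩
  have hfin : Finite ↥(centralizer ({x} : Set K)) := Nat.finite_of_card_ne_zero (by rw [hcd]; positivity)
  exact cent_b h hx (S0144.result 2 3 c d Nat.prime_two Nat.prime_three hcd)

end Cfsg.Agent.H243.BKillB
end
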